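import Cfsg.Agent.Lib.Spor.MonsterType.Three.Data

/-!
# Checks of the tables
-/

set_option autoImplicit false
set_option maxRecDepth 100000

namespace CfsgLib.Spor.MonsterType.Three

open CfsgLib.Spor CfsgLib.Spor.Leech CfsgLib.Spor.MonsterType.Fix

theorem cfg_classes : ((List.range 256).zip cfg.short).all (fun t => cfg.orb.contains t.1 ||
    (leechTest (vecPack t.2) && decide (Cfsg.sqNorm (fun q => cfg.vecRep t.1 q - 2 * vecPack t.2 q) < 64))) = true := by
  decide +kernel

theorem cfg_ok : cfg.OK where
  prime := by norm_num [cfg]
  odd := by decide +kernel
  code_ok := by decide +kernel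
  pow := by decide +kernel
  moves := by decide +kernel
  fixed := by decide +kernel
  bas_mem := by decide +kernel
  prb_mem := by decide +kernel
  dual := by decide +kernel
  cover := by decide +kernel
  den_ne := by decide +kernel
  span := by decide +kernel
  short_len := by decide +kernel
  classes := cfg_classes
  root := by decide +kernel
  orb_lt := by decide +kernel
  orb_ne := by decide +kernel

/-- The table. -/
def tab : Tab := ⟨cfg, cfg_ok⟩

theorem ops_ok : OpOK tab ops where
  pairs_ok := by decide +kernel
  first_moves := by decide +kernel
  reach := by decide +kernel
  index_lt := by decide +kernel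
  cands := by decide +kernel
  cent_comm := by decide +kernel
  cent_ok := by decide +kernel
  pgens_ok := by decide +kernel
  masks_all := by decide +kernel
  masks_ok := by decide +kernel
  cert := ⟨by decide +kernel, by decide +kernel, by decide +kernel, by decide +kernel, by decide +kernel⟩
  certT := ⟨by decide +kernel, by decide +kernel, by decide +kernel, by decide +kernel, by decide +kernel⟩
  comm := by decide +kernel

/-- The system. -/
noncomputable def sys : Sys := ⟨tab, ops, ops_ok⟩

end CfsgLib.Spor.MonsterType.Three
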