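import Cfsg.Agent.Lib.Spor.MonsterType.Three.Moves
import Cfsg.Agent.Lib.Spor.MonsterType.Fix.Words

/-!
# The centralizer of the element of order three induces the alternating group on nine blocks
-/

set_option autoImplicit false
set_option maxRecDepth 100000

namespace CfsgLib.Spor.MonsterType.Three

open CfsgLib.Spor.MonsterType.Fix

/-- The incidence of blocks and positions. -/
def inc (b : Fin 9) (r : ℕ) : Bool := (incTab.getD b 0).testBit r

/-- The image of a block. -/
def blockImg (T : List (List ℕ)) (i : ℕ) (b : Fin 9) : Fin 9 :=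
  ⟨(T.getD i []).getD b 0 % 9, Nat.mod_lt _ (by norm_num)⟩

/-- The permutation of the blocks of a generator. -/
def betaAt (i : ℕ) : Equiv.Perm (Fin 9) := permOfFn (blockImg betaTab i) (blockImg betaInv i)

/-- The words of the three-cycles. -/
def threeWords : List (List ℕ) := [[], [], [18, 3, 18, 7, 18, 3, 18, 7], [18, 1, 18, 1, 18, 1, 18, 1],
  [1, 1, 18, 9, 1, 18, 3, 1], [1, 0, 1, 18, 6, 0, 1, 0], [18, 6], [7, 1, 18, 7, 1, 1, 1], [0, 1, 0, 18, 6, 1, 0, 1]]

theorem beta_carries : ∀ (o : sys.Op) (b : Fin 9) (r : Fin cfg.orb.length),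
    inc (betaAt (opIdx sys o) b) (mv.img (opIdx sys o) r) = inc b r := by decide +kernel

theorem inc_inj : ∀ b c : Fin 9, (∀ r : Fin cfg.orb.length, inc b r = inc c r) → b = c := by decide +kernel

theorem beta_even : ∀ o : sys.Op, Equiv.Perm.sign (betaAt (opIdx sys o)) = 1 := by decide +kernel

theorem word_index : ∀ w ∈ threeWords, ∀ i ∈ w, ∃ o : sys.Op, opIdx sys o = i := by decide +kernel

theorem word_value : ∀ k : Fin 9, k ≠ 0 → k ≠ 1 →
    ((threeWords.getD k []).map betaAt).prod = basicThree (0 : Fin 9) 1 k ∧ threeWords.getD k [] ∈ threeWords := by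
  decide +kernel

theorem beta_gen :
    Subgroup.closure (Set.range fun o : sys.Op => betaAt (opIdx sys o)) = alternatingGroup (Fin 9) := by
  refine le_antisymm ((Subgroup.closure_le _).2 ?_) (alternating_le (0 : Fin 9) 1 (fun k h0 h1 => ?_) three_nine)
  · rintro _ ⟨o, rfl⟩
    exact Equiv.Perm.mem_alternatingGroup.2 (beta_even o)
  · obtain ⟨e, hm⟩ := word_value k h0 h1
    rw [← e]
    exact prod_mem_closure (opIdx sys) betaAt _ (word_index _ hm)

theorem size_le : cfg.orb.length * (ops.masks.length * (ops.trans.length * ops.stab.length)) ≤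
    2 * cfg.p * 181440 := by decide +kernel

/-- The system with its blocks. -/
noncomputable def blocked : Blocked where
  toMoved := moved
  B := Fin 9
  inc := inc
  beta o := betaAt (opIdx sys o)
  A := alternatingGroup (Fin 9)
  beta_ok := beta_carries
  inc_inj := inc_inj
  beta_gen := beta_gen
  card_le := by
    rw [nat_card_alternatingGroup, Nat.card_fin]
    exact size_le
  finB := inferInstance

end CfsgLib.Spor.MonsterType.Three
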