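import Cfsg.Agent.Lib.Spor.MonsterType.Three.Certs

/-!
# The action of the generators on the long classes
-/

set_option autoImplicit false
set_option maxRecDepth 100000

namespace CfsgLib.Spor.MonsterType.Three

open CfsgLib.Spor CfsgLib.Spor.Leech CfsgLib.Spor.MonsterType.Fix

theorem mv_K : ∀ (o : sys.Op) (i k : Fin 8),
    Cfsg.dotInt (sys.act o (cfg.bas i)) (cfg.prb k) = 8 * mv.entry (opIdx sys o) i k := by decide +kernel

theorem mv_tab : ∀ (o : sys.Op) (r : Fin cfg.orb.length), mv.img (opIdx sys o) r < cfg.orb.length ∧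
    ∀ k : Fin 8, (mv.row (opIdx sys o) (cfg.orb.getD r 0) k -
      bits (cfg.orb.getD (mv.img (opIdx sys o) r) 0) k) % 2 = 0 := by decide +kernel

theorem mv_ok : MoveOK sys mv where
  K_ok := mv_K
  tab_ok := mv_tab
  par_ok := by decide +kernel
  orb_nodup := by decide +kernel

/-- The system with its action. -/
noncomputable def moved : Moved := ⟨sys, mv, mv_ok⟩

end CfsgLib.Spor.MonsterType.Three
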