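import Cfsg.Agent.Lib.Spor.MonsterType.Three.Main
import Cfsg.Agent.Lib.Spor.MonsterType.Fix.Setting
import Cfsg.Agent.Lib.Spor.MonsterType.Fix.Standard
import Cfsg.Agent.Lib.Spor.ElementClasses

/-!
# Subgroups of order three that are not 3-central in the joint centralizer, and their centralizers
-/

set_option autoImplicit false

namespace CfsgLib.Spor.MonsterType.Three

open Subgroup CfsgLib.Spor CfsgLib.Spor.Leech CfsgLib.Spor.MonsterType.Fix
open Cfsg (leechLattice Co0 sqNorm GolayPt M24)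

set_option maxRecDepth 100000 in
theorem sylow_centre : ∃ i : Fin 27, pop 24 (fixMaskOf (arrGet 120 sylThreeW i)) = 6 ∧
    ∀ j : Fin 27, commCodes (arrGet 120 sylThreeW i) (arrGet 120 sylThreeW j) = true := by decide +kernel

set_option maxRecDepth 100000 in
theorem fix_standard : pop 24 (fixMaskOf cfg.code) = 0 := by decide +kernel

noncomputable section

theorem m24_exp : (244823040 : ℕ).factorization 3 = 3 := by
  rw [show (244823040 : ℕ) = 3 ^ 3 * 9067520 by norm_num, Nat.factorization_mul (by norm_num) (by norm_num),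
    Finsupp.add_apply, Nat.Prime.factorization_pow Nat.prime_three, Finsupp.single_eq_same,
    Nat.factorization_eq_zero_of_not_dvd (by norm_num)]

/-- An element of order three with six fixed points is central in a Sylow 3-subgroup. -/
theorem exists_central {τ : M24} (hτ : orderOf (τ : Equiv.Perm GolayPt) = 3)
    (h6 : (fixSet (τ : Equiv.Perm GolayPt)).card = 6) :
    ∃ H : Subgroup M24, Nat.card H = 27 ∧ τ ∈ H ∧ ∀ x ∈ H, x * τ = τ * x := by
  obtain ⟨H, hH, hcard, hmem⟩ := listed_subgroup sylThree_list sylThree_distinct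
  obtain ⟨i, hi6, hic⟩ := sylow_centre
  have hperm : ∀ j : Fin 27, isPermCode (arrGet 120 sylThreeW j) = true := fun j => by
    have h := sylThree_list.2.2.2 j j.2
    simp only [listRow, Bool.and_eq_true] at h
    exact h.1
  set c := permOf (arrGet 120 sylThreeW i) with hc
  have hcH : c ∈ H := (hmem _).2 ⟨i, i.2, rfl⟩
  have hc6 : (fixSet c).card = 6 := by rw [hc, fixSet_permOf (hperm i), card_pts, hi6]
  have hc3 : orderOf c = 3 := by
    have h1 : c ≠ 1 := fun e => by
      rw [e, show fixSet 1 = Finset.univ from Finset.filter_true_of_mem fun p _ => rfl, Finset.card_univ,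
        show Fintype.card GolayPt = 24 by decide +kernel] at hc6
      omega
    have hcube : ∀ j : Fin 27, powCode (arrGet 120 sylThreeW j) 3 = idPacked := by decide +kernel
    refine (haveI : Fact (Nat.Prime 3) := ⟨Nat.prime_three⟩; orderOf_eq_prime ?_ h1)
    rw [hc, ← (permOf_powCode (hperm i) 3).1, hcube i, permOf_idPacked]
  obtain ⟨k, hk, e⟩ := conj_of_same_rep
    (fun r hr => ((Bool.and_eq_true _ _).mp (List.all_eq_true.1 reps_three.1 r hr)).1)
    (by rw [reps_three.2]; decide) (exists_rep_three (hH hcH) hc3) (exists_rep_three τ.2 hτ) (hc6.trans h6.symm)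
  let H' : Subgroup M24 := (H.subgroupOf M24).map (MulAut.conj (⟨k, hk⟩ : M24)).toMonoidHom
  refine ⟨H', ?_, ⟨⟨c, hH hcH⟩, hcH, Subtype.ext e⟩, ?_⟩
  · rw [show H' = (H.subgroupOf M24).map (MulAut.conj (⟨k, hk⟩ : M24)).toMonoidHom from rfl,
      card_map_of_injective (MulAut.conj (⟨k, hk⟩ : M24)).injective,
      Nat.card_congr (subgroupOfEquivOfLe hH).toEquiv, hcard]
  · rintro _ ⟨x, hx, rfl⟩
    obtain ⟨j, hj, ej⟩ := (hmem (x : Equiv.Perm GolayPt)).1 hx
    have hcx : (x : Equiv.Perm GolayPt) * c = c * x := by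
      rw [← ej, hc]
      exact (eq_mul_of_commCodes (hperm i) (hperm ⟨j, hj⟩) (hic ⟨j, hj⟩)).symm
    refine Subtype.ext ?_
    show k * (x : Equiv.Perm GolayPt) * k⁻¹ * τ = τ * (k * (x : Equiv.Perm GolayPt) * k⁻¹)
    rw [← e]
    calc k * (x : Equiv.Perm GolayPt) * k⁻¹ * (k * c * k⁻¹) = k * ((x : Equiv.Perm GolayPt) * c) * k⁻¹ := by group
      _ = k * (c * (x : Equiv.Perm GolayPt)) * k⁻¹ := by rw [hcx]
      _ = _ := by group

/-- The standard permutation. -/
def sigmaM : M24 := ⟨blocked.sigma, blocked.sigma_mem⟩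

theorem sigma_facts : orderOf (sigmaM : Equiv.Perm GolayPt) = 3 ∧
    (fixSet (sigmaM : Equiv.Perm GolayPt)).card = 0 := by
  haveI : Fact (Nat.Prime 3) := ⟨Nat.prime_three⟩
  refine ⟨orderOf_eq_prime blocked.sigma_pow blocked.sigma_ne, ?_⟩
  show (fixSet blocked.sigma).card = 0
  rw [Tab.sigma, fixSet_permOf blocked.code_perm, card_pts]
  exact fix_standard

variable {G : Type*} [Group G] [Finite G] {z : G} {Q : Subgroup G} {R : leechLattice → G → Prop}
  {π : ↥(centralizer ({z} : Set G)) →* Cfsg.Spor.Co1}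

theorem exists_standard (D : Data z Q R π) (hw : ∃ g : G, g * z * g⁻¹ ∈ Q ∧ g * z * g⁻¹ ≠ z) {g : G}
    (hgQ : g * z * g⁻¹ ∈ Q) (hne : g * z * g⁻¹ ≠ z) (Y : Subgroup G)
    (hY : Y ≤ centralizer ({z, g * z * g⁻¹} : Set G)) (hY3 : Nat.card Y = 3)
    (hnc : ∀ P : Sylow 3 ↥(centralizer ({z, g * z * g⁻¹} : Set G)),
      ¬ Y.subgroupOf (centralizer ({z, g * z * g⁻¹} : Set G)) ≤
        (center ↥(P : Subgroup ↥(centralizer ({z, g * z * g⁻¹} : Set G)))).map
          (P : Subgroup ↥(centralizer ({z, g * z * g⁻¹} : Set G))).subtype) :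
    ∃ (R' : leechLattice → G → Prop) (π' : ↥(centralizer ({z} : Set G)) →* Cfsg.Spor.Co1)
      (D' : Data z Q R' π') (b : G), Y = zpowers b ∧ Elt blocked D' b := by
  classical
  haveI : Fact (Nat.Prime 3) := ⟨Nat.prime_three⟩
  haveI : Fact (Nat.Prime 2) := ⟨Nat.prime_two⟩
  set s := g * z * g⁻¹ with hs
  obtain ⟨h, v, -, himg, -⟩ := D.image_conjugate hgQ hne
  set L := centralizer ({z, s} : Set G) with hL
  have hLz : L ≤ centralizer ({z} : Set G) := centralizer_le (by simp)
  have hLs : L ≤ centralizer ({s} : Set G) := centralizer_le (by simp)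
  have himg' : (L.subgroupOf (centralizer ({z} : Set G))).map π = (crossMap h).range := by
    have e : L = centralizer ({z} : Set G) ⊓ centralizer ({s} : Set G) := by
      ext c
      simp only [hL, mem_inf, mem_centralizer_iff, Set.mem_insert_iff, Set.mem_singleton_iff, forall_eq_or_imp,
        forall_eq]
    rw [e]
    exact himg
  let inc : L →* ↥(centralizer ({z} : Set G)) := Subgroup.inclusion hLz
  have hrange : ∀ x : L, π (inc x) ∈ (crossMap h).range := fun x =>
    himg' ▸ mem_map_of_mem π (mem_subgroupOf.2 x.2)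
  let down : ↥(crossMap h).range →* M24 := (crossMap h).rangeRestrict.liftOfSurjective
    (crossMap h).rangeRestrict_surjective ⟨permHom, fun x hx =>
      MonoidHom.mem_ker.2 (permHom_ker.2 (crossMap_ker h (congrArg Subtype.val (MonoidHom.mem_ker.1 hx))))⟩
  have hdown : ∀ x, down ((crossMap h).rangeRestrict x) = permHom x := fun x =>
    MonoidHom.liftOfRightInverse_comp_apply (crossMap h).rangeRestrict _ _ _ x
  let θ : L →* M24 := down.comp ((π.comp inc).codRestrict _ hrange)
  have hθ : ∀ (x : L) (y : crossStab), crossMap h y = π (inc x) → θ x = permHom y := fun x y e => by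
    rw [← hdown]; exact congrArg down (Subtype.ext e.symm)
  have hθs : Function.Surjective θ := by
    intro σ
    obtain ⟨c, hc, e⟩ : crossMap h (prm σ) ∈ (L.subgroupOf (centralizer ({z} : Set G))).map π := himg' ▸ ⟨_, rfl⟩
    exact ⟨⟨c, mem_subgroupOf.1 hc⟩, (hθ ⟨c, mem_subgroupOf.1 hc⟩ (prm σ) e.symm).trans (permHom_prm σ)⟩
  have hθ2 : IsPGroup 2 θ.ker := by
    intro x
    obtain ⟨y, hy⟩ := hrange x
    have hyS : permHom y = 1 := (hθ x y hy).symm.trans x.2
    have hy2 : y ^ 2 = 1 := signs_sq (permHom_ker.1 hyS)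
    have hQ : ((inc x ^ 2 : ↥(centralizer ({z} : Set G))) : G) ∈ Q :=
      (D.kerπ _).1 (by rw [map_pow, ← hy, ← map_pow, hy2, map_one])
    obtain ⟨n, hn⟩ := D.half.two ⟨_, hQ⟩
    refine ⟨n + 1, Subtype.ext (Subtype.ext ?_)⟩
    have := congrArg Subtype.val hn
    simp only [coe_pow, OneMemClass.coe_one] at this ⊢
    rw [pow_succ', pow_mul]
    exact this
  haveI : IsCyclic Y := isCyclic_of_prime_card hY3
  obtain ⟨b0, hb0⟩ := IsCyclic.exists_generator (α := Y)
  have hBb : Y = zpowers (b0 : G) := by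
    refine le_antisymm (fun x hx => ?_) (zpowers_le.2 b0.2)
    obtain ⟨i, hi⟩ := mem_zpowers_iff.1 (hb0 ⟨x, hx⟩)
    exact ⟨i, by simpa using congrArg Subtype.val hi⟩
  have hord : orderOf (b0 : G) = 3 :=
    (Nat.card_zpowers _).symm.trans ((congrArg (fun H : Subgroup G => Nat.card H) hBb).symm.trans hY3)
  let bl : L := ⟨b0, hY b0.2⟩
  obtain ⟨y, hy3, hy1, hy⟩ := exists_cross_elt D (p := 3) Nat.prime_three (by norm_num) h (inc bl) hord (hrange bl)
  set τ := permHom y with hτd
  have hτ : θ bl = τ := hθ bl y hy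
  have hτ3 : orderOf (τ : Equiv.Perm GolayPt) = 3 := by
    rw [Subgroup.orderOf_coe]
    refine orderOf_eq_prime (by rw [hτd, ← map_pow, hy3, map_one]) fun e => hy1 ?_
    have h2 : y ^ 2 = 1 := signs_sq (permHom_ker.1 e)
    rw [pow_succ, h2, one_mul] at hy3
    exact hy3
  rcases three_fix τ.2 hτ3 with h6 | h0
  · exfalso
    obtain ⟨H, hH, hτH, hcen⟩ := exists_central hτ3 h6
    set K := H.comap θ with hK
    have hbK : bl ∈ K := mem_comap.2 (hτ ▸ hτH)
    have hbord : orderOf (⟨bl, hbK⟩ : K) = 3 := by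
      rw [← Subgroup.orderOf_coe, ← Subgroup.orderOf_coe]; exact hord
    have hpg : IsPGroup 3 (zpowers (⟨bl, hbK⟩ : K)) := IsPGroup.of_card (n := 1) (by
      rw [Nat.card_zpowers, hbord, pow_one])
    obtain ⟨P, hP⟩ := hpg.exists_le_sylow
    set P' := (P : Subgroup K).map K.subtype with hP'
    obtain ⟨n2, hn2⟩ := hθ2.exists_card_eq
    have hfac2 : (2 ^ n2).factorization 3 = 0 := by
      rw [Nat.factorization_pow, Finsupp.smul_apply, Nat.factorization_eq_zero_of_not_dvd (by norm_num), smul_zero]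
    have hLc : (Nat.card L).factorization 3 = 3 := by
      have hk := θ.ker.card_mul_index
      rw [index_ker, MonoidHom.range_eq_top.2 hθs, card_top, card_M24, hn2] at hk
      rw [← hk, Nat.factorization_mul (by positivity) (by norm_num), Finsupp.add_apply, hfac2, zero_add, m24_exp]
    have hKc : (Nat.card K).factorization 3 = 3 := by
      have hk := (θ.subgroupMap K).ker.card_mul_index
      rw [index_ker, MonoidHom.range_eq_top.2 (θ.subgroupMap_surjective K), card_top] at hk
      have himK : Nat.card ↥(K.map θ) = 27 := by rw [hK, map_comap_eq_self_of_surjective hθs H, hH]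
      rw [himK] at hk
      have hker : Nat.card (θ.subgroupMap K).ker = 2 ^ n2 := by
        rw [← hn2]
        exact Nat.card_congr ⟨fun x => ⟨(x : K), congrArg Subtype.val x.2⟩,
          fun x => ⟨⟨x, mem_comap.2 (by rw [x.2]; exact H.one_mem)⟩, Subtype.ext x.2⟩, fun x => rfl, fun x => rfl⟩
      rw [← hk, hker, Nat.factorization_mul (by positivity) (by norm_num), Finsupp.add_apply, hfac2, zero_add,
        show (27 : ℕ) = 3 ^ 3 by norm_num, Nat.Prime.factorization_pow Nat.prime_three, Finsupp.single_eq_same]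
    have hPc : Nat.card P' = 3 ^ 3 := by
      rw [hP', card_map_of_injective K.subtype_injective, P.card_eq_multiplicity, hKc]
    let PL : Sylow 3 L := Sylow.ofCard P' (by rw [hPc, hLc])
    refine hnc PL ?_
    intro x hx
    rw [mem_subgroupOf, hBb, mem_zpowers_iff] at hx
    obtain ⟨i, hi⟩ := hx
    have hbP : bl ∈ P' := ⟨⟨bl, hbK⟩, hP (mem_zpowers _), rfl⟩
    have hxe : x = bl ^ i := Subtype.ext (by rw [coe_zpow]; exact hi.symm)
    have hcb : (⟨bl, hbP⟩ : P') ∈ center P' := by
      refine mem_center_iff.2 fun q => ?_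
      obtain ⟨q, hq⟩ := q
      have hqP : q * bl * q⁻¹ * bl⁻¹ ∈ P' :=
        P'.mul_mem (P'.mul_mem (P'.mul_mem hq hbP) (P'.inv_mem hq)) (P'.inv_mem hbP)
      have hker : q * bl * q⁻¹ * bl⁻¹ ∈ θ.ker := by
        obtain ⟨q', -, rfl⟩ := hq
        rw [MonoidHom.mem_ker, map_mul, map_mul, map_mul, map_inv, map_inv, hτ, mul_inv_eq_one,
          mul_inv_eq_iff_eq_mul]
        exact hcen _ q'.2
      have h1 : q * bl * q⁻¹ * bl⁻¹ = 1 := by
        obtain ⟨a, ha⟩ := (IsPGroup.of_card hPc : IsPGroup 3 P') ⟨_, hqP⟩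
        obtain ⟨c, hc⟩ := hθ2 ⟨_, hker⟩
        have ha' := congrArg Subtype.val ha
        have hc' := congrArg Subtype.val hc
        simp only [coe_pow, OneMemClass.coe_one] at ha' hc'
        rw [← pow_one (q * bl * q⁻¹ * bl⁻¹), ← (Nat.Coprime.pow a c (by norm_num) : Nat.gcd (3 ^ a) (2 ^ c) = 1),
          pow_gcd_eq_one]
        exact ⟨ha', hc'⟩
      exact Subtype.ext (mul_inv_eq_iff_eq_mul.1 (mul_inv_eq_one.1 h1))
    exact ⟨(⟨bl, hbP⟩ : P') ^ i, zpow_mem hcb i, hxe.symm⟩
  · obtain ⟨k, hk, e⟩ := conj_of_same_rep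
      (fun r hr => ((Bool.and_eq_true _ _).mp (List.all_eq_true.1 reps_three.1 r hr)).1)
      (by rw [reps_three.2]; decide) (exists_rep_three τ.2 hτ3)
      (exists_rep_three sigmaM.2 sigma_facts.1) (h0.trans sigma_facts.2.symm)
    obtain ⟨c, hc⟩ := exists_sign_conj Nat.prime_three (by norm_num) hy3 hτd.symm
    have hkc : (prm ⟨k, hk⟩ * c) * y * (prm ⟨k, hk⟩ * c)⁻¹ = crossP blocked.toTab := by
      rw [show (prm ⟨k, hk⟩ * c) * y * (prm ⟨k, hk⟩ * c)⁻¹ = prm ⟨k, hk⟩ * (c * y * c⁻¹) * (prm ⟨k, hk⟩)⁻¹ by group,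
        hc, ← map_inv, ← map_mul, ← map_mul]
      exact congrArg prm (Subtype.ext e)
    obtain ⟨R', π', D', b, hb, E⟩ := standard_of_conj blocked D hw (inc bl) hord hy
      (k := ((prm ⟨k, hk⟩ * c : crossStab) : Co0)) (i := 1) (by
        rw [pow_one, ← crossP_coe, ← hkc]; simp only [coe_mul, coe_inv]) (Nat.coprime_one_left _)
    exact ⟨R', π', D', b, hBb.trans hb, E⟩

/-- The centralizer modulo it. -/
theorem type_of_elt {D : Data z Q R π} {b : G} (E : Elt blocked D b) (B : Subgroup G) (hB : B = zpowers b)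
    [(B.subgroupOf (centralizer (B : Set G))).Normal] :
    Cfsg.IsOfThompsonType (↥(centralizer (B : Set G)) ⧸ B.subgroupOf (centralizer (B : Set G))) :=
  E.setting (alternating_two_free 9 (by norm_num)) B hB

end

end CfsgLib.Spor.MonsterType.Three
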